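/-
Low degree coefficients of substitutions in multivariate power series.
-/
import Mathlib

set_option autoImplicit false
open Finsupp MvPowerSeries

namespace Groth.Agent.LT84

universe u
variable {R : Type u} [CommRing R] {σ τ : Type*}

open scoped Classical in
theorem coeff_monomial_mul_low {d e : σ →₀ ℕ} (h : d.degree ≤ e.degree) (G : MvPowerSeries σ R) :
    coeff d (monomial e 1 * G) = if e = d then constantCoeff G else 0 := by
  classical
  rw [MvPowerSeries.coeff_monomial_mul]
  by_cases hle : e ≤ d
  · rw [if_pos hle, one_mul]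
    obtain ⟨c, rfl⟩ := exists_add_of_le hle
    have hc : c = 0 := by
      rw [map_add] at h
      exact (Finsupp.degree_eq_zero_iff c).1 (by omega)
    subst hc
    simp
  · rw [if_neg hle, if_neg]
    rintro rfl
    exact hle le_rfl

theorem le_order_iff {n : ℕ} {f : MvPowerSeries σ R} :
    (n : ℕ∞) ≤ f.order ↔ ∀ d : σ →₀ ℕ, d.degree < n → coeff d f = 0 :=
  ⟨fun h d hd => coeff_of_lt_order (lt_of_lt_of_le (by exact_mod_cast hd) h), nat_le_order⟩

theorem coeff_eq_of_le_order_sub {n : ℕ} {f g : MvPowerSeries σ R} (h : (n : ℕ∞) ≤ (f - g).order)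
    {d : σ →₀ ℕ} (hd : d.degree < n) : coeff d f = coeff d g := by
  rw [← sub_eq_zero, ← map_sub]
  exact le_order_iff.1 h d hd

theorem eq_of_forall_le_order_sub {f g : MvPowerSeries σ R}
    (h : ∀ n : ℕ, (n : ℕ∞) ≤ (f - g).order) : f = g :=
  MvPowerSeries.ext fun d => coeff_eq_of_le_order_sub (h (d.degree + 1)) (Nat.lt_succ_self _)

theorem coeff_mul_eq_zero {n : ℕ} {δ S : MvPowerSeries σ R} (hδ : (n : ℕ∞) ≤ δ.order)
    (hS : constantCoeff S = 0) {d : σ →₀ ℕ} (hd : d.degree ≤ n) : coeff d (δ * S) = 0 := by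
  refine coeff_of_lt_order (lt_of_lt_of_le ?_
    ((add_le_add hδ (one_le_order_iff_constCoeff_eq_zero.2 hS)).trans le_order_mul))
  exact_mod_cast Nat.lt_succ_of_le hd

theorem coeff_add_pow {n m : ℕ} (hm : 2 ≤ m) {Φ δ : MvPowerSeries σ R}
    (hΦ : constantCoeff Φ = 0) (hδ : (n : ℕ∞) ≤ δ.order) (hn : 1 ≤ n) {d : σ →₀ ℕ}
    (hd : d.degree ≤ n) : coeff d ((Φ + δ) ^ m) = coeff d (Φ ^ m) := by
  have hδ0 : constantCoeff δ = 0 := one_le_order_iff_constCoeff_eq_zero.1
    (le_trans (by exact_mod_cast hn) hδ)
  have key := geom_sum₂_mul (Φ + δ) Φ m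
  rw [add_sub_cancel_left] at key
  rw [← sub_eq_zero, ← map_sub, ← key, mul_comm]
  refine coeff_mul_eq_zero hδ ?_ hd
  rw [map_sum]
  refine Finset.sum_eq_zero fun i hi => ?_
  rw [map_mul, map_pow, map_pow, map_add, hΦ, hδ0, add_zero]
  rw [Finset.mem_range] at hi
  rcases Nat.eq_zero_or_pos i with rfl | h
  · rw [zero_pow (show m - 1 - 0 ≠ 0 by omega), mul_zero]
  · rw [zero_pow h.ne', zero_mul]

variable [Finite σ]

/-- The low degree coefficients of a series of high order after substituting `Xᵢ ↦ Xᵢ gᵢ`. -/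
theorem coeff_subst_X_mul {g : σ → MvPowerSeries σ R} {c : R} (hg : ∀ i, constantCoeff (g i) = c)
    {n : ℕ} {δ : MvPowerSeries σ R} (hδ : (n : ℕ∞) ≤ δ.order) {d : σ →₀ ℕ} (hd : d.degree ≤ n) :
    coeff d (subst (fun i => X i * g i) δ) = c ^ d.degree * coeff d δ := by
  classical
  haveI := Fintype.ofFinite σ
  have ha : HasSubst (fun i => X i * g i : σ → MvPowerSeries σ R) :=
    hasSubst_of_constantCoeff_zero fun i => by simp
  have hterm : ∀ e : σ →₀ ℕ, n ≤ e.degree →
      coeff d (e.prod fun s m => (X s * g s) ^ m) = if e = d then c ^ e.degree else 0 := by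
    intro e he
    simp only [mul_pow]
    rw [Finsupp.prod_mul, ← MvPowerSeries.monomial_one_eq, coeff_monomial_mul_low (hd.trans he)]
    congr 1
    simp [Finsupp.prod, map_prod, hg, Finset.prod_pow_eq_pow_sum, Finsupp.degree_apply]
  rw [coeff_subst ha, finsum_eq_single _ d]
  · rcases Nat.lt_or_ge d.degree n with h | h
    · rw [le_order_iff.1 hδ d h, zero_smul, mul_zero]
    · rw [hterm d h, if_pos rfl, smul_eq_mul, mul_comm]
  · intro e hne
    rcases Nat.lt_or_ge e.degree n with h | h
    · rw [le_order_iff.1 hδ e h, zero_smul]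
    · rw [hterm e h, if_neg hne, smul_zero]

/-- Linear coefficients of a substitution. -/
theorem coeff_subst_degree_one [Fintype σ] {b : σ → MvPowerSeries τ R}
    (hb : ∀ i, constantCoeff (b i) = 0) (Φ : MvPowerSeries σ R) {d : τ →₀ ℕ} (hd : d.degree = 1) :
    coeff d (subst b Φ) = ∑ i, coeff (single i 1) Φ * coeff d (b i) := by
  classical
  have h1 : ∀ i : σ, ((single i 1).prod fun s m => (b s) ^ m) = b i := fun i => by
    rw [Finsupp.prod_single_index (h := fun s m => (b s) ^ m) (by simp), pow_one]
  rw [coeff_subst (hasSubst_of_constantCoeff_zero hb),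
    finsum_eq_finsetSum_of_support_subset _
      (s := Finset.univ.image fun i : σ => single i 1) ?_]
  · rw [Finset.sum_image (fun i _ j _ hij => Finsupp.single_left_injective one_ne_zero hij)]
    exact Finset.sum_congr rfl fun i _ => by rw [h1, smul_eq_mul]
  · intro e he
    rw [Function.mem_support] at he
    by_contra hne
    apply he
    have hd0 : d ≠ 0 := fun h => by simp [h] at hd
    rcases Nat.lt_or_ge e.degree 2 with h | h
    · interval_cases h' : e.degree
      · rw [(Finsupp.degree_eq_zero_iff e).1 h']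
        simp [coeff_one, hd0]
      · exfalso
        apply hne
        obtain ⟨i, hi⟩ : ∃ i, e i ≠ 0 := by
          by_contra hall
          push Not at hall
          rw [Finsupp.degree_eq_sum] at h'
          simp [hall] at h'
        have : e = single i 1 := by
          rw [Finsupp.degree_eq_sum, ← Finset.add_sum_erase _ _ (Finset.mem_univ i)] at h'
          ext j
          rcases eq_or_ne j i with rfl | hji
          · rw [single_eq_same]; omega
          · rw [single_eq_of_ne hji]
            have := Finset.single_le_sum (f := fun x => e x) (s := Finset.univ.erase i)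
              (fun _ _ => Nat.zero_le _) (Finset.mem_erase.2 ⟨hji, Finset.mem_univ j⟩)
            omega
        simp [this]
    · rw [coeff_of_lt_order (d := d), smul_zero]
      refine lt_of_lt_of_le ?_ (le_order_prod _ _)
      rw [hd]
      calc ((1 : ℕ) : ℕ∞) < (e.degree : ℕ∞) := by exact_mod_cast h
        _ ≤ _ := by
          rw [Finsupp.degree_apply, Nat.cast_sum]
          refine Finset.sum_le_sum fun i _ => ?_
          refine le_trans ?_ (le_order_pow (e i))
          have := one_le_order_iff_constCoeff_eq_zero.2 (hb i)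
          calc ((e i : ℕ) : ℕ∞) = e i • (1 : ℕ∞) := by simp
            _ ≤ _ := nsmul_le_nsmul_right this _

theorem eq_of_linear [Fintype σ] {Φ Ψ : MvPowerSeries σ R} (h0 : constantCoeff Φ = constantCoeff Ψ)
    (h1 : ∀ i, coeff (single i 1) Φ = coeff (single i 1) Ψ) : ((2 : ℕ) : ℕ∞) ≤ (Φ - Ψ).order := by
  classical
  refine nat_le_order fun d hd => ?_
  interval_cases h : d.degree
  · rw [(Finsupp.degree_eq_zero_iff d).1 h, coeff_zero_eq_constantCoeff_apply, map_sub, h0, sub_self]
  · obtain ⟨i, hi⟩ : ∃ i, d i ≠ 0 := by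
      by_contra hall
      push Not at hall
      rw [Finsupp.degree_eq_sum] at h
      simp [hall] at h
    have : d = single i 1 := by
      rw [Finsupp.degree_eq_sum, ← Finset.add_sum_erase _ _ (Finset.mem_univ i)] at h
      ext j
      rcases eq_or_ne j i with rfl | hji
      · rw [single_eq_same]; omega
      · rw [single_eq_of_ne hji]
        have := Finset.single_le_sum (f := fun x => d x) (s := Finset.univ.erase i)
          (fun _ _ => Nat.zero_le _) (Finset.mem_erase.2 ⟨hji, Finset.mem_univ j⟩)
        omega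
    rw [this, map_sub, h1, sub_self]

/-- Gluing: series with prescribed truncations. -/
theorem exists_glue (S : ℕ → MvPowerSeries σ R)
    (h : ∀ m n, m ≤ n → ((m + 1 : ℕ) : ℕ∞) ≤ (S n - S m).order) :
    ∃ T : MvPowerSeries σ R, ∀ n, ((n + 1 : ℕ) : ℕ∞) ≤ (S n - T).order := by
  refine ⟨fun d => coeff d (S d.degree), fun n => nat_le_order fun d hd => ?_⟩
  have hle : d.degree ≤ n := by omega
  show coeff d (S n) - coeff d (S d.degree) = 0
  rw [coeff_eq_of_le_order_sub (h _ _ hle) (Nat.lt_succ_self _), sub_self]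

end Groth.Agent.LT84
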