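/-
A degree-by-degree solver for equations in power series, and the Lubin-Tate lemma.
-/
import Mathlib
import Groth.Agent.Lib.H84.LT.Subst

set_option autoImplicit false
open Finsupp MvPowerSeries

namespace Groth.Agent.LT84

universe u
variable {R : Type u} [CommRing R] {σ : Type*} [Fintype σ]

/-- `E` is triangular with multiplier `a`. -/
def Tri (E : MvPowerSeries σ R → MvPowerSeries σ R) (a : ℕ → R) : Prop :=
  ∀ (Φ δ : MvPowerSeries σ R) (n : ℕ), constantCoeff Φ = 0 → 1 ≤ n → (n : ℕ∞) ≤ δ.order →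
    ∀ d : σ →₀ ℕ, d.degree ≤ n → coeff d (E (Φ + δ)) = coeff d (E Φ) + a d.degree * coeff d δ

variable {E : MvPowerSeries σ R → MvPowerSeries σ R} {a : ℕ → R}

theorem Tri.agree (hE : Tri E a) (hinj : ∀ n, 2 ≤ n → ∀ x : R, a n * x = 0 → x = 0)
    {Φ Ψ : MvPowerSeries σ R} (hΦ : constantCoeff Φ = 0) (hΨ : constantCoeff Ψ = 0)
    (hl : ∀ i, coeff (single i 1) Φ = coeff (single i 1) Ψ) {n : ℕ}
    (h : ∀ d : σ →₀ ℕ, d.degree ≤ n → coeff d (E Φ) = coeff d (E Ψ)) :
    ((n + 1 : ℕ) : ℕ∞) ≤ (Φ - Ψ).order := by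
  have h2 := eq_of_linear (hΦ.trans hΨ.symm) hl
  have key : ∀ k, k ≤ n + 1 → (k : ℕ∞) ≤ (Φ - Ψ).order := by
    intro k
    induction k with
    | zero => simp
    | succ k ih =>
      intro hk
      rcases Nat.lt_or_ge k 2 with hk2 | hk2
      · exact le_trans (by exact_mod_cast (show k + 1 ≤ 2 by omega)) h2
      · refine nat_le_order fun d hd => ?_
        rcases Nat.lt_succ_iff_lt_or_eq.1 hd with hd' | hd'
        · exact le_order_iff.1 (ih (by omega)) d hd'
        · have := hE Ψ (Φ - Ψ) k hΨ (by omega) (ih (by omega)) d hd'.le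
          rw [add_sub_cancel, h d (by omega), hd', left_eq_add] at this
          exact hinj k hk2 _ this
  exact key _ le_rfl

theorem Tri.ext (hE : Tri E a) (hinj : ∀ n, 2 ≤ n → ∀ x : R, a n * x = 0 → x = 0)
    {Φ Ψ : MvPowerSeries σ R} (hΦ : constantCoeff Φ = 0) (hΨ : constantCoeff Ψ = 0)
    (hl : ∀ i, coeff (single i 1) Φ = coeff (single i 1) Ψ) (h : E Φ = E Ψ) : Φ = Ψ :=
  eq_of_forall_le_order_sub fun n => le_trans (by exact_mod_cast Nat.le_succ n)
    (hE.agree hinj hΦ hΨ hl (n := n) fun _ _ => by rw [h])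

theorem Tri.exists_zero (hE : Tri E a) (l : σ → R)
    (hinj : ∀ n, 2 ≤ n → ∀ x : R, a n * x = 0 → x = 0)
    (hlow : ∀ Φ : MvPowerSeries σ R, constantCoeff Φ = 0 → (∀ i, coeff (single i 1) Φ = l i) →
      ∀ d : σ →₀ ℕ, d.degree ≤ 1 → coeff d (E Φ) = 0)
    (hsolve : ∀ Φ : MvPowerSeries σ R, constantCoeff Φ = 0 → ∀ d : σ →₀ ℕ, 2 ≤ d.degree →
      ∃ x : R, coeff d (E Φ) + a d.degree * x = 0) :
    ∃ T : MvPowerSeries σ R, constantCoeff T = 0 ∧ (∀ i, coeff (single i 1) T = l i) ∧ E T = 0 := by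
  classical
  have step : ∀ n, ∃ Φ : MvPowerSeries σ R, constantCoeff Φ = 0 ∧ (∀ i, coeff (single i 1) Φ = l i) ∧
      ∀ d : σ →₀ ℕ, d.degree ≤ n → coeff d (E Φ) = 0 := by
    intro n
    induction n with
    | zero =>
      refine ⟨∑ i, C (l i) * X i, by simp, fun i => ?_, fun d hd => hlow _ (by simp) (fun i => ?_) d (by omega)⟩
      all_goals simp [coeff_index_single_X]
    | succ n ih =>
      obtain ⟨Φ, h0, h1, hz⟩ := ih
      rcases Nat.eq_zero_or_pos n with rfl | hn
      · exact ⟨Φ, h0, h1, fun d hd => hlow Φ h0 h1 d hd⟩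
      choose x hx using fun d : {d : σ →₀ ℕ // 2 ≤ d.degree} => hsolve Φ h0 d.1 d.2
      let δ : MvPowerSeries σ R := fun d =>
        if h : d.degree = n + 1 then x ⟨d, by omega⟩ else 0
      have hδc : ∀ d : σ →₀ ℕ, coeff d δ =
          if h : d.degree = n + 1 then x ⟨d, by omega⟩ else 0 := fun d => rfl
      have hδ : ((n + 1 : ℕ) : ℕ∞) ≤ δ.order :=
        nat_le_order fun d hd => by rw [hδc, dif_neg (by omega)]
      refine ⟨Φ + δ, ?_, fun i => ?_, fun d hd => ?_⟩
      · rw [map_add, h0, ← coeff_zero_eq_constantCoeff_apply, hδc, dif_neg (by simp), add_zero]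
      · rw [map_add, h1, hδc, dif_neg (by simp only [degree_single]; omega), add_zero]
      · rw [hE Φ δ (n + 1) h0 (by omega) hδ d hd, hδc]
        rcases eq_or_lt_of_le hd with h | h
        · rw [dif_pos h]; exact hx ⟨d, by omega⟩
        · rw [dif_neg (by omega), hz d (by omega)]; ring
  choose S h0 h1 hz using step
  obtain ⟨T, hT⟩ := exists_glue S fun m n hmn =>
    hE.agree hinj (h0 n) (h0 m) (fun i => by rw [h1, h1]) fun d hd => by
      rw [hz n d (by omega), hz m d hd]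
  have hT0 : constantCoeff T = 0 := by
    rw [← coeff_zero_eq_constantCoeff_apply, ← coeff_eq_of_le_order_sub (hT 0) (by simp),
      coeff_zero_eq_constantCoeff_apply, h0]
  refine ⟨T, hT0, fun i => ?_, MvPowerSeries.ext fun d => ?_⟩
  · rw [← coeff_eq_of_le_order_sub (hT 1) (by simp), h1]
  · have := hE T (S (d.degree + 1) - T) (d.degree + 2) hT0 (by omega) (hT _) d (by omega)
    rw [add_sub_cancel, hz _ d (by omega), le_order_iff.1 (hT (d.degree + 1)) d (by omega),
      mul_zero, add_zero] at this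
    rw [← this, map_zero]

end Groth.Agent.LT84
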