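/-
Lubin-Tate: series commuting with `π T + T ^ q`.
-/
import Mathlib
import Groth.Agent.Lib.H84.LT.Solve

set_option autoImplicit false
open Finsupp MvPowerSeries

namespace Groth.Agent.LT84

universe u
variable {R : Type u} [CommRing R] {σ τ : Type*} (π : R) (q : ℕ)

/-- The tuple `(π Xᵢ + Xᵢ ^ q)`. -/
noncomputable def vars (σ : Type*) : σ → MvPowerSeries σ R := fun i => π • X i + X i ^ q

/-- `Φ` commutes with `π T + T ^ q`. -/
def Commutes (Φ : MvPowerSeries σ R) : Prop := subst (vars π q σ) Φ = π • Φ + Φ ^ q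

/-- `Φ` turns `π T + T ^ q` into multiplication by `π`. -/
def Linearizes (Φ : MvPowerSeries σ R) : Prop := subst (vars π q σ) Φ = π • Φ

variable {π q}

theorem constantCoeff_vars (hq : 2 ≤ q) (i : σ) : constantCoeff (vars π q σ i) = 0 := by
  simp [vars, smul_eq_C_mul, zero_pow (show q ≠ 0 by omega)]

theorem hasSubst_vars [Finite σ] (hq : 2 ≤ q) : HasSubst (vars π q σ) :=
  hasSubst_of_constantCoeff_zero (constantCoeff_vars hq)

theorem subst_lt {b : MvPowerSeries σ R} (hb : constantCoeff b = 0) :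
    PowerSeries.subst b (π • PowerSeries.X + PowerSeries.X ^ q : PowerSeries R) = π • b + b ^ q := by
  have hs : PowerSeries.HasSubst b := PowerSeries.HasSubst.of_constantCoeff_zero hb
  rw [PowerSeries.subst_add hs, PowerSeries.subst_smul hs, PowerSeries.subst_pow hs,
    PowerSeries.subst_X hs]

theorem coeff_subst_vars [Finite σ] (hq : 2 ≤ q) {n : ℕ} {δ : MvPowerSeries σ R}
    (hδ : (n : ℕ∞) ≤ δ.order) {d : σ →₀ ℕ} (hd : d.degree ≤ n) :
    coeff d (subst (vars π q σ) δ) = π ^ d.degree * coeff d δ := by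
  rw [show vars π q σ = fun i => X i * (C π + X i ^ (q - 1)) from funext fun i => by
    rw [vars, smul_eq_C_mul, mul_add, ← pow_succ', show q - 1 + 1 = q by omega, mul_comm]]
  exact coeff_subst_X_mul (fun i => by simp [zero_pow (show q - 1 ≠ 0 by omega)]) hδ hd

theorem Commutes.X' [Finite σ] (hq : 2 ≤ q) (i : σ) : Commutes π q (X i : MvPowerSeries σ R) := by
  rw [Commutes, subst_X (hasSubst_vars hq), vars]

theorem subst_vars_comp [Finite σ] [Finite τ] (hq : 2 ≤ q) {ψ : σ → MvPowerSeries τ R}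
    (hψ0 : ∀ i, constantCoeff (ψ i) = 0) (hψ : ∀ i, Commutes π q (ψ i)) (Φ : MvPowerSeries σ R) :
    subst (vars π q τ) (subst ψ Φ) = subst ψ (subst (vars π q σ) Φ) := by
  have hs := hasSubst_of_constantCoeff_zero hψ0
  rw [subst_comp_subst_apply hs (hasSubst_vars hq), subst_comp_subst_apply (hasSubst_vars hq) hs]
  congr 1
  funext i
  rw [hψ i, vars, subst_add hs, subst_smul hs, subst_pow hs, subst_X hs]

theorem Commutes.comp [Finite σ] [Finite τ] (hq : 2 ≤ q) {ψ : σ → MvPowerSeries τ R}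
    (hψ0 : ∀ i, constantCoeff (ψ i) = 0) (hψ : ∀ i, Commutes π q (ψ i)) {Φ : MvPowerSeries σ R}
    (hΦ : Commutes π q Φ) : Commutes π q (subst ψ Φ) := by
  have hs := hasSubst_of_constantCoeff_zero hψ0
  rw [Commutes, subst_vars_comp hq hψ0 hψ, hΦ, subst_add hs, subst_smul hs, subst_pow hs]

theorem Linearizes.comp [Finite σ] [Finite τ] (hq : 2 ≤ q) {ψ : σ → MvPowerSeries τ R}
    (hψ0 : ∀ i, constantCoeff (ψ i) = 0) (hψ : ∀ i, Commutes π q (ψ i)) {Φ : MvPowerSeries σ R}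
    (hΦ : Linearizes π q Φ) : Linearizes π q (subst ψ Φ) := by
  have hs := hasSubst_of_constantCoeff_zero hψ0
  rw [Linearizes, subst_vars_comp hq hψ0 hψ, hΦ, subst_smul hs]

theorem Linearizes.sub [Finite σ] (hq : 2 ≤ q) {Φ Ψ : MvPowerSeries σ R}
    (hΦ : Linearizes π q Φ) (hΨ : Linearizes π q Ψ) : Linearizes π q (Φ - Ψ) := by
  rw [Linearizes, subst_sub (hasSubst_vars hq), hΦ, hΨ, smul_sub]

theorem Linearizes.smul [Finite σ] (hq : 2 ≤ q) {Φ : MvPowerSeries σ R} (c : R)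
    (hΦ : Linearizes π q Φ) : Linearizes π q (c • Φ) := by
  rw [Linearizes, subst_smul (hasSubst_vars hq), hΦ, smul_comm]

theorem Commutes.map [Finite σ] (hq : 2 ≤ q) {S : Type u} [CommRing S] (h : R →+* S)
    {Φ : MvPowerSeries σ R} (hΦ : Commutes π q Φ) : Commutes (h π) q (Φ.map h) := by
  have := congrArg (MvPowerSeries.map h) hΦ
  rw [map_subst (hasSubst_vars hq)] at this
  simp only [vars, smul_eq_C_mul, map_add, map_mul, map_pow, map_C, map_X] at this
  simp only [Commutes, smul_eq_C_mul]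
  convert this using 2
  funext i
  simp [vars, smul_eq_C_mul]

variable [Fintype σ]

theorem tri_lt (hq : 2 ≤ q) : Tri (fun Φ : MvPowerSeries σ R => π • Φ + Φ ^ q - subst (vars π q σ) Φ)
    (fun n => π - π ^ n) := by
  intro Φ δ n hΦ hn hδ d hd
  simp only
  rw [subst_add (hasSubst_vars hq), map_sub, map_add, map_sub, map_add, map_add,
    coeff_add_pow hq hΦ hδ hn hd, coeff_subst_vars hq hδ hd]
  simp only [smul_add, map_add, coeff_smul]
  ring

theorem tri_linear (hq : 2 ≤ q) : Tri (fun Φ : MvPowerSeries σ R => subst (vars π q σ) Φ - π • Φ)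
    (fun n => π ^ n - π) := by
  intro Φ δ n _ _ hδ d hd
  simp only
  rw [subst_add (hasSubst_vars hq), map_sub, map_add, map_sub, coeff_subst_vars hq hδ hd]
  simp only [smul_add, map_add, coeff_smul]
  ring

theorem low_lt (hq : 2 ≤ q) {Φ : MvPowerSeries σ R} (hΦ : constantCoeff Φ = 0)
    (d : σ →₀ ℕ) (hd : d.degree ≤ 1) :
    coeff d (π • Φ + Φ ^ q - subst (vars π q σ) Φ) = 0 := by
  have h1 : ((1 : ℕ) : ℕ∞) ≤ Φ.order := by
    exact_mod_cast one_le_order_iff_constCoeff_eq_zero.2 hΦ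
  have := tri_lt (π := π) hq (0 : MvPowerSeries σ R) Φ 1 (map_zero _) le_rfl h1 d hd
  simp only [zero_add] at this
  have e0 : π • (0 : MvPowerSeries σ R) + 0 ^ q - subst (vars π q σ) (0 : MvPowerSeries σ R) = 0 := by
    rw [smul_zero, zero_pow (show q ≠ 0 by omega), zero_add, ← coe_substAlgHom (hasSubst_vars hq),
      map_zero, sub_zero]
  rw [this, e0, map_zero, zero_add]
  rcases Nat.le_one_iff_eq_zero_or_eq_one.1 hd with h | h
  · rw [(Finsupp.degree_eq_zero_iff d).1 h, coeff_zero_eq_constantCoeff_apply, hΦ, mul_zero]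
  · rw [h, pow_one, sub_self, zero_mul]

theorem low_linear (hq : 2 ≤ q) {Φ : MvPowerSeries σ R} (hΦ : constantCoeff Φ = 0)
    (d : σ →₀ ℕ) (hd : d.degree ≤ 1) : coeff d (subst (vars π q σ) Φ - π • Φ) = 0 := by
  have h1 : ((1 : ℕ) : ℕ∞) ≤ Φ.order := by
    exact_mod_cast one_le_order_iff_constCoeff_eq_zero.2 hΦ
  rw [map_sub, coeff_subst_vars hq h1 hd, coeff_smul]
  rcases Nat.le_one_iff_eq_zero_or_eq_one.1 hd with h | h
  · rw [(Finsupp.degree_eq_zero_iff d).1 h, coeff_zero_eq_constantCoeff_apply, hΦ]; simp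
  · simp [h]

theorem Commutes.ext (hq : 2 ≤ q) (hinj : ∀ n, 2 ≤ n → ∀ x : R, (π - π ^ n) * x = 0 → x = 0)
    {Φ Ψ : MvPowerSeries σ R} (h0 : constantCoeff Φ = 0) (h0' : constantCoeff Ψ = 0)
    (hl : ∀ i, coeff (single i 1) Φ = coeff (single i 1) Ψ)
    (h : Commutes π q Φ) (h' : Commutes π q Ψ) : Φ = Ψ := by
  refine (tri_lt hq).ext hinj h0 h0' hl ?_
  rw [h, h', sub_self, sub_self]

theorem Linearizes.ext (hq : 2 ≤ q) (hinj : ∀ n, 2 ≤ n → ∀ x : R, (π ^ n - π) * x = 0 → x = 0)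
    {Φ Ψ : MvPowerSeries σ R} (h0 : constantCoeff Φ = 0) (h0' : constantCoeff Ψ = 0)
    (hl : ∀ i, coeff (single i 1) Φ = coeff (single i 1) Ψ)
    (h : Linearizes π q Φ) (h' : Linearizes π q Ψ) : Φ = Ψ := by
  refine (tri_linear hq).ext hinj h0 h0' hl ?_
  rw [h, h', sub_self, sub_self]

section DVR

variable {O : Type u} [CommRing O] [IsDomain O] [IsDiscreteValuationRing O]
  [Finite (IsLocalRing.ResidueField O)] {π : O}

theorem inj_lt (hπ : Irreducible π) (n : ℕ) (hn : 2 ≤ n) (x : O) (h : (π - π ^ n) * x = 0) :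
    x = 0 := by
  obtain ⟨m, rfl⟩ : ∃ m, n = m + 1 := ⟨n - 1, by omega⟩
  have hu : IsUnit (1 - π ^ m) := IsLocalRing.isUnit_one_sub_self_of_mem_nonunits _ (fun hu =>
    hπ.not_isUnit ((isUnit_pow_iff (by omega)).1 hu))
  rw [show π - π ^ (m + 1) = π * (1 - π ^ m) by ring, mul_assoc] at h
  exact hu.mul_right_eq_zero.1 ((mul_eq_zero.1 h).resolve_left hπ.ne_zero)

theorem dvd_coeff (hπ : Irreducible π) (Φ : MvPowerSeries σ O) (d : σ →₀ ℕ) :
    π ∣ coeff d (π • Φ + Φ ^ Nat.card (IsLocalRing.ResidueField O) -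
      subst (vars π (Nat.card (IsLocalRing.ResidueField O)) σ) Φ) := by
  haveI := Fintype.ofFinite (IsLocalRing.ResidueField O)
  set k := IsLocalRing.ResidueField O
  have hq : 2 ≤ Nat.card k := Finite.one_lt_card
  set r := IsLocalRing.residue O
  have hrπ : r π = 0 := (IsLocalRing.residue_eq_zero_iff π).2
    ((IsLocalRing.mem_maximalIdeal π).2 hπ.not_isUnit)
  obtain ⟨p, hp⟩ := CharP.exists k
  haveI := hp
  obtain ⟨f, hpp, hf⟩ := FiniteField.card k p
  haveI : Fact p.Prime := ⟨hpp⟩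
  haveI : ExpChar k p := ExpChar.prime hpp
  have hfrob : iterateFrobenius k p (f : ℕ) = RingHom.id k := RingHom.ext fun x => by
    rw [iterateFrobenius_def, ← hf, FiniteField.pow_card]; rfl
  have hexp := MvPowerSeries.map_iterateFrobenius_expand p hpp.ne_zero (Φ.map r) (f : ℕ)
  rw [hfrob, map_id, RingHom.id_apply, MvPowerSeries.expand, substAlgHom_apply] at hexp
  have key : MvPowerSeries.map r (π • Φ + Φ ^ Nat.card k - subst (vars π (Nat.card k) σ) Φ) = 0 := by
    rw [map_sub, map_add, map_pow, map_subst (hasSubst_vars hq), smul_eq_C_mul, map_mul, map_C, hrπ,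
      map_zero, zero_mul, zero_add, sub_eq_zero, Nat.card_eq_fintype_card, hf, ← hexp]
    congr 1
    funext i
    simp [vars, smul_eq_C_mul, hrπ]
  have := congrArg (coeff d) key
  rwa [coeff_map, map_zero, IsLocalRing.residue_eq_zero_iff, hπ.maximalIdeal_eq,
    Ideal.mem_span_singleton] at this

theorem exists_commutes (hπ : Irreducible π) (l : σ → O) :
    ∃ Φ : MvPowerSeries σ O, constantCoeff Φ = 0 ∧ (∀ i, coeff (single i 1) Φ = l i) ∧
      Commutes π (Nat.card (IsLocalRing.ResidueField O)) Φ := by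
  have hq : 2 ≤ Nat.card (IsLocalRing.ResidueField O) := Finite.one_lt_card
  have hsolve : ∀ Φ : MvPowerSeries σ O, constantCoeff Φ = 0 → ∀ d : σ →₀ ℕ, 2 ≤ d.degree →
      ∃ x : O, coeff d (π • Φ + Φ ^ Nat.card (IsLocalRing.ResidueField O) -
        subst (vars π (Nat.card (IsLocalRing.ResidueField O)) σ) Φ) + (π - π ^ d.degree) * x = 0 := by
    intro Φ _ d hd
    obtain ⟨r, hr⟩ := dvd_coeff hπ Φ d
    obtain ⟨m, hm⟩ : ∃ m, d.degree = m + 1 := ⟨d.degree - 1, by omega⟩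
    obtain ⟨u, hu⟩ := IsLocalRing.isUnit_one_sub_self_of_mem_nonunits (π ^ m) (fun hu =>
      hπ.not_isUnit ((isUnit_pow_iff (by omega)).1 hu))
    refine ⟨-(r * ↑u⁻¹), ?_⟩
    rw [hr, hm, show π - π ^ (m + 1) = π * ↑u by rw [hu]; ring,
      show π * (↑u : O) * -(r * ↑u⁻¹) = -(π * r * (↑u * ↑u⁻¹)) by ring, Units.mul_inv, mul_one,
      add_neg_cancel]
  obtain ⟨T, h0, h1, hT⟩ := (tri_lt (σ := σ) hq).exists_zero l (inj_lt hπ)
    (fun Φ hΦ _ d hd => low_lt hq hΦ d hd) hsolve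
  exact ⟨T, h0, h1, (sub_eq_zero.1 hT).symm⟩

end DVR

end Groth.Agent.LT84
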