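/-
The inverse series of a one-dimensional formal group law.
-/
import Mathlib
import Groth.Agent.Lib.H84.LT.Solve

set_option autoImplicit false
open Finsupp MvPowerSeries

namespace Groth.Agent.LT84

universe u
variable {R : Type u} [CommRing R]

theorem pair_cc {a b : PowerSeries R} (ha : PowerSeries.constantCoeff a = 0)
    (hb : PowerSeries.constantCoeff b = 0) :
    ∀ i, constantCoeff ((![a, b] : Fin 2 → MvPowerSeries Unit R) i) = 0 :=
  Fin.forall_fin_two.2 ⟨ha, hb⟩

theorem tri_inverse (F : FormalGroup R) :
    Tri (fun g : MvPowerSeries Unit R => subst ![PowerSeries.X, g] F.toPowerSeries) (fun _ => 1) := by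
  intro Φ δ n hΦ hn hδ d hd
  have hδ0 : constantCoeff δ = 0 := one_le_order_iff_constCoeff_eq_zero.1
    (le_trans (by exact_mod_cast hn) hδ)
  have hΦδ : constantCoeff (Φ + δ) = 0 := by rw [map_add, hΦ, hδ0, add_zero]
  have s1 := hasSubst_of_constantCoeff_zero (pair_cc PowerSeries.constantCoeff_X hΦδ)
  have s2 := hasSubst_of_constantCoeff_zero (pair_cc PowerSeries.constantCoeff_X hΦ)
  rw [one_mul, ← sub_eq_iff_eq_add', coeff_subst s1, coeff_subst s2,
    ← finsum_sub_distrib (coeff_subst_finite s1 _ _) (coeff_subst_finite s2 _ _),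
    finsum_eq_single _ (single 1 1)]
  · rw [F.lin_coeff_Y, one_smul, one_smul, prod_single_index (by simp), prod_single_index (by simp)]
    simp
  · intro e he
    rw [← smul_sub, ← map_sub]
    have hp : ∀ g : MvPowerSeries Unit R,
        (e.prod fun s m => (![(PowerSeries.X : PowerSeries R), g] : Fin 2 → MvPowerSeries Unit R) s ^ m) =
          (PowerSeries.X : PowerSeries R) ^ e 0 * g ^ e 1 := fun g => by
      rw [Finsupp.prod_fintype _ _ (fun _ => pow_zero _), Fin.prod_univ_two]; rfl
    rw [hp, hp, ← mul_sub]
    suffices h : coeff d ((PowerSeries.X : MvPowerSeries Unit R) ^ e 0 * ((Φ + δ) ^ e 1 - Φ ^ e 1)) = 0 by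
      rw [h, smul_zero]
    rcases Nat.lt_or_ge (e 1) 2 with h | h
    · interval_cases hh : e 1
      · simp
      · have h0 : e 0 ≠ 0 := by
          intro h0
          apply he
          ext i
          fin_cases i
          · simpa using h0
          · simpa using hh
        rw [pow_one, pow_one, add_sub_cancel_left, mul_comm]
        refine coeff_mul_eq_zero hδ ?_ hd
        rw [map_pow]
        exact (congrArg (· ^ e 0) PowerSeries.constantCoeff_X).trans (zero_pow h0)
    · refine coeff_of_lt_order (lt_of_lt_of_le ?_ ((le_add_self).trans le_order_mul))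
      have : ((n + 1 : ℕ) : ℕ∞) ≤ ((Φ + δ) ^ e 1 - Φ ^ e 1).order := nat_le_order fun x hx => by
        rw [map_sub, coeff_add_pow h hΦ hδ hn (by omega), sub_self]
      exact lt_of_lt_of_le (by exact_mod_cast Nat.lt_succ_of_le hd) this

theorem exists_right_inverse (F : FormalGroup R) :
    ∃ g : PowerSeries R, PowerSeries.constantCoeff g = 0 ∧
      F.toPowerSeries.subst ![PowerSeries.X, g] = (0 : PowerSeries R) := by
  obtain ⟨g, h0, -, hg⟩ := (tri_inverse F).exists_zero (fun _ => -1) (fun _ _ x hx => by simpa using hx)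
    (fun Φ hΦ hl d hd => by
      rcases Nat.le_one_iff_eq_zero_or_eq_one.1 hd with h | h
      · rw [(Finsupp.degree_eq_zero_iff d).1 h, coeff_zero_eq_constantCoeff_apply]
        exact constantCoeff_subst_eq_zero
          (hasSubst_of_constantCoeff_zero (pair_cc PowerSeries.constantCoeff_X hΦ))
          (pair_cc PowerSeries.constantCoeff_X hΦ) F.zero_constantCoeff
      · have hd1 : d = single () 1 := by
          ext
          rw [single_eq_same]
          rw [Finsupp.degree_eq_sum] at h
          simpa using h
        rw [coeff_subst_degree_one (pair_cc PowerSeries.constantCoeff_X hΦ) _ h, Fin.sum_univ_two,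
          F.lin_coeff_X, F.lin_coeff_Y, hd1]
        simp [hl, PowerSeries.X, coeff_index_single_X])
    (fun Φ _ d _ => ⟨-coeff d (subst ![PowerSeries.X, Φ] F.toPowerSeries), by simp⟩)
  exact ⟨g, h0, hg⟩

theorem exists_inverse (F : FormalGroup R) :
    ∃ g : PowerSeries R, g.constantCoeff = 0 ∧
      F.toPowerSeries.subst ![PowerSeries.X, g] = (0 : PowerSeries R) ∧
      F.toPowerSeries.subst ![g, PowerSeries.X] = (0 : PowerSeries R) ∧
      ∀ k : PowerSeries R, k.constantCoeff = 0 →
        (F.toPowerSeries.subst ![PowerSeries.X, k] = (0 : PowerSeries R) ∨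
          F.toPowerSeries.subst ![k, PowerSeries.X] = (0 : PowerSeries R)) → k = g := by
  obtain ⟨g, h0, hg⟩ := exists_right_inverse F
  have hgs : PowerSeries.HasSubst g := PowerSeries.HasSubst.of_constantCoeff_zero' h0
  have hX : PowerSeries.HasSubst (PowerSeries.X : PowerSeries R) := PowerSeries.HasSubst.X'
  set h := PowerSeries.subst g g with hh
  have hh0 : constantCoeff (h : MvPowerSeries Unit R) = 0 :=
    constantCoeff_subst_eq_zero hgs.const (fun _ => h0) h0
  have hhs : PowerSeries.HasSubst h := PowerSeries.HasSubst.of_constantCoeff_zero hh0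
  have hgh : F.toPowerSeries.subst ![g, h] = (0 : PowerSeries R) := by
    have := congrArg (PowerSeries.subst g) hg
    rw [← PowerSeries.coe_substAlgHom hgs, map_zero, PowerSeries.coe_substAlgHom hgs,
      PowerSeries.subst_def, subst_comp_subst_apply
        (hasSubst_of_constantCoeff_zero (pair_cc PowerSeries.constantCoeff_X h0)) hgs.const] at this
    rw [← this]
    congr 1
    funext i
    fin_cases i
    · exact (PowerSeries.subst_X hgs).symm
    · rfl
  have hXh : h = PowerSeries.X := by
    have := F.assoc' (f₀ := (PowerSeries.X : PowerSeries R)) (f₁ := g) (f₂ := h) hX hgs hhs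
    rw [hg, hgh, F.zero_add hhs, F.add_zero hX] at this
    exact this
  have hleft : F.toPowerSeries.subst ![g, PowerSeries.X] = (0 : PowerSeries R) := hXh ▸ hgh
  refine ⟨g, h0, hg, hleft, fun k hk0 hk => ?_⟩
  have hks : PowerSeries.HasSubst k := PowerSeries.HasSubst.of_constantCoeff_zero' hk0
  rcases hk with hk | hk
  · have := F.assoc' (f₀ := g) (f₁ := (PowerSeries.X : PowerSeries R)) (f₂ := k) hgs hX hks
    rw [hleft, hk, F.zero_add hks, F.add_zero hgs] at this
    exact this
  · have := F.assoc' (f₀ := k) (f₁ := (PowerSeries.X : PowerSeries R)) (f₂ := g) hks hX hgs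
    rw [hk, hg, F.zero_add hgs, F.add_zero hks] at this
    exact this.symm

end Groth.Agent.LT84
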