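/-
Lubin-Tate formal groups, their endomorphisms, and the logarithm.
-/
import Mathlib
import Groth.Agent.Lib.H84.LT.Basic

set_option autoImplicit false
open Finsupp MvPowerSeries

namespace Groth.Agent.LT84

universe u
variable {R : Type u} [CommRing R] {σ τ : Type*} {π : R} {q : ℕ}

theorem vars_eq_subst (π : R) (q : ℕ) (i : σ) :
    PowerSeries.subst (X i : MvPowerSeries σ R) (π • PowerSeries.X + PowerSeries.X ^ q : PowerSeries R) =
      vars π q σ i := by
  rw [subst_lt (constantCoeff_X i)]; rfl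

theorem commutes_mv [Finite σ] {Φ : MvPowerSeries σ R} (h0 : constantCoeff Φ = 0) :
    Commutes π q Φ ↔
      PowerSeries.subst Φ (π • PowerSeries.X + PowerSeries.X ^ q : PowerSeries R) =
        subst (fun i => PowerSeries.subst (X i : MvPowerSeries σ R)
          (π • PowerSeries.X + PowerSeries.X ^ q : PowerSeries R)) Φ := by
  rw [subst_lt h0, funext (vars_eq_subst π q)]
  exact eq_comm

theorem vars_unit (π : R) (q : ℕ) : vars π q Unit =
    fun _ => (π • PowerSeries.X + PowerSeries.X ^ q : PowerSeries R) := rfl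

theorem commutes_ps {g : PowerSeries R} (h0 : PowerSeries.constantCoeff g = 0) :
    Commutes π q (g : MvPowerSeries Unit R) ↔
      PowerSeries.subst g (π • PowerSeries.X + PowerSeries.X ^ q : PowerSeries R) =
        PowerSeries.subst (π • PowerSeries.X + PowerSeries.X ^ q : PowerSeries R) g := by
  rw [subst_lt (b := (g : MvPowerSeries Unit R)) h0]
  exact eq_comm

theorem coeff_single_unit (g : PowerSeries R) (i : Unit) :
    coeff (single i 1) (g : MvPowerSeries Unit R) = PowerSeries.coeff 1 g := rfl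

variable [Fintype σ]

theorem pair0 {a b : MvPowerSeries σ R} (ha : constantCoeff a = 0) (hb : constantCoeff b = 0) :
    ∀ i, constantCoeff (![a, b] i) = 0 := Fin.forall_fin_two.2 ⟨ha, hb⟩

theorem pairC {a b : MvPowerSeries σ R} (ha : Commutes π q a) (hb : Commutes π q b) :
    ∀ i, Commutes π q (![a, b] i) := Fin.forall_fin_two.2 ⟨ha, hb⟩

/-- Composites with equal linear parts agree. -/
theorem cc_subst [Fintype τ] {b : σ → MvPowerSeries τ R} (hb : ∀ i, constantCoeff (b i) = 0)
    {Φ : MvPowerSeries σ R} (hΦ : constantCoeff Φ = 0) : constantCoeff (subst b Φ) = 0 :=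
  constantCoeff_subst_eq_zero (hasSubst_of_constantCoeff_zero hb) hb hΦ

theorem coeff_pair [Fintype τ] {F : MvPowerSeries (Fin 2) R} (h1 : coeff (single 0 1) F = 1)
    (h2 : coeff (single 1 1) F = 1) {a b : MvPowerSeries τ R} (ha : constantCoeff a = 0)
    (hb : constantCoeff b = 0) (j : τ) :
    coeff (single j 1) (subst ![a, b] F) = coeff (single j 1) a + coeff (single j 1) b := by
  rw [coeff_subst_degree_one (pair0 ha hb) F (degree_single j 1), Fin.sum_univ_two, h1, h2]
  simp

theorem endo_unique (hq : 2 ≤ q) (hinj : ∀ n, 2 ≤ n → ∀ x : R, (π - π ^ n) * x = 0 → x = 0)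
    (F : FormalGroup R) (hF : Commutes π q F.toPowerSeries) (g : PowerSeries R)
    (hg0 : PowerSeries.constantCoeff g = 0) (hg : Commutes π q (g : MvPowerSeries Unit R)) :
    PowerSeries.subst F.toPowerSeries g =
      subst (fun i : Fin 2 => PowerSeries.subst (X i : MvPowerSeries (Fin 2) R) g) F.toPowerSeries := by
  have a0 : ∀ _ : Unit, constantCoeff F.toPowerSeries = 0 := fun _ => F.zero_constantCoeff
  have b0 : ∀ i : Fin 2, constantCoeff (PowerSeries.subst (X i : MvPowerSeries (Fin 2) R) g) = 0 :=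
    fun i => cc_subst (fun _ => constantCoeff_X i) hg0
  have bC : ∀ i : Fin 2, Commutes π q (PowerSeries.subst (X i : MvPowerSeries (Fin 2) R) g) :=
    fun i => Commutes.comp hq (fun _ => constantCoeff_X i) (fun _ => Commutes.X' hq i) hg
  refine Commutes.ext hq hinj (cc_subst a0 hg0) (cc_subst b0 F.zero_constantCoeff) (fun j => ?_)
    (Commutes.comp hq a0 (fun _ => hF) hg) (Commutes.comp hq b0 bC hF)
  have hj : coeff (single j 1) F.toPowerSeries = 1 := by
    fin_cases j
    exacts [F.lin_coeff_X, F.lin_coeff_Y]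
  have hb : ∀ i : Fin 2, coeff (single j 1) (PowerSeries.subst (X i : MvPowerSeries (Fin 2) R) g) =
      if i = j then PowerSeries.coeff 1 g else 0 := by
    intro i
    rw [PowerSeries.subst_def, coeff_subst_degree_one (fun _ => constantCoeff_X i) _ (degree_single j 1)]
    simp [coeff_index_single_X, coeff_single_unit, eq_comm]
  have e1 : coeff (single j 1) (PowerSeries.subst F.toPowerSeries g) = PowerSeries.coeff 1 g := by
    rw [PowerSeries.subst_def, coeff_subst_degree_one a0 _ (degree_single j 1)]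
    simp [hj, coeff_single_unit]
  rw [e1, coeff_subst_degree_one b0 _ (degree_single j 1), Fin.sum_univ_two, hb, hb,
    F.lin_coeff_X, F.lin_coeff_Y]
  fin_cases j <;> simp

theorem add_mul_series (hq : 2 ≤ q) (hinj : ∀ n, 2 ≤ n → ∀ x : R, (π - π ^ n) * x = 0 → x = 0)
    (F : FormalGroup R) (hF : Commutes π q F.toPowerSeries) {α β : R} {ga gb gm gs : PowerSeries R}
    (ha0 : PowerSeries.constantCoeff ga = 0) (ha1 : PowerSeries.coeff 1 ga = α)
    (ha : Commutes π q (ga : MvPowerSeries Unit R))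
    (hb0 : PowerSeries.constantCoeff gb = 0) (hb1 : PowerSeries.coeff 1 gb = β)
    (hb : Commutes π q (gb : MvPowerSeries Unit R))
    (hm0 : PowerSeries.constantCoeff gm = 0) (hm1 : PowerSeries.coeff 1 gm = α * β)
    (hm : Commutes π q (gm : MvPowerSeries Unit R))
    (hs0 : PowerSeries.constantCoeff gs = 0) (hs1 : PowerSeries.coeff 1 gs = α + β)
    (hs : Commutes π q (gs : MvPowerSeries Unit R)) :
    PowerSeries.subst gb ga = gm ∧ F.toPowerSeries.subst ![ga, gb] = gs := by
  constructor
  · refine Commutes.ext hq hinj (cc_subst (fun _ => hb0) ha0) hm0 (fun j => ?_)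
      (Commutes.comp hq (fun _ => hb0) (fun _ => hb) ha) hm
    rw [PowerSeries.subst_def, coeff_subst_degree_one (fun _ => hb0) _ (degree_single j 1), coeff_single_unit gm, hm1]
    simp [coeff_single_unit, ha1, hb1]
  · refine Commutes.ext hq hinj (cc_subst (pair0 ha0 hb0) F.zero_constantCoeff) hs0 (fun j => ?_)
      (Commutes.comp hq (pair0 ha0 hb0) (pairC ha hb) hF) hs
    rw [coeff_pair F.lin_coeff_X F.lin_coeff_Y ha0 hb0, coeff_single_unit gs, hs1]
    rw [coeff_single_unit ga, coeff_single_unit gb, ha1, hb1]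

section DVR

variable {O : Type u} [CommRing O] [IsDomain O] [IsDiscreteValuationRing O]
  [Finite (IsLocalRing.ResidueField O)] {π : O}

theorem exists_formalGroup (hπ : Irreducible π) :
    ∃ F : FormalGroup O, F.IsComm ∧ Commutes π (Nat.card (IsLocalRing.ResidueField O)) F.toPowerSeries ∧
      ∀ G : MvPowerSeries (Fin 2) O, constantCoeff G = 0 → coeff (single 0 1) G = 1 →
        coeff (single 1 1) G = 1 → Commutes π (Nat.card (IsLocalRing.ResidueField O)) G →
        G = F.toPowerSeries := by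
  set q := Nat.card (IsLocalRing.ResidueField O)
  have hq : 2 ≤ q := Finite.one_lt_card
  obtain ⟨Φ, h0, h1, hC⟩ := exists_commutes (σ := Fin 2) hπ (fun _ => 1)
  have X0 : ∀ i : Fin 3, constantCoeff (X i : MvPowerSeries (Fin 3) O) = 0 := fun i => constantCoeff_X i
  have XC : ∀ i : Fin 3, Commutes π q (X i : MvPowerSeries (Fin 3) O) := fun i => Commutes.X' hq i
  have Y0 : ∀ a b : Fin 3, constantCoeff (subst ![X a, X b] Φ : MvPowerSeries (Fin 3) O) = 0 :=
    fun a b => cc_subst (pair0 (X0 a) (X0 b)) h0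
  have YC : ∀ a b : Fin 3, Commutes π q (subst ![X a, X b] Φ : MvPowerSeries (Fin 3) O) :=
    fun a b => Commutes.comp hq (pair0 (X0 a) (X0 b)) (pairC (XC a) (XC b)) hC
  have hassoc : subst ![subst ![X 0, X 1] Φ, X 2] Φ =
      (subst ![X 0, subst ![X 1, X 2] Φ] Φ : MvPowerSeries (Fin 3) O) := by
    refine Commutes.ext hq (inj_lt hπ) (cc_subst (pair0 (Y0 0 1) (X0 2)) h0)
      (cc_subst (pair0 (X0 0) (Y0 1 2)) h0) (fun j => ?_)
      (Commutes.comp hq (pair0 (Y0 0 1) (X0 2)) (pairC (YC 0 1) (XC 2)) hC)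
      (Commutes.comp hq (pair0 (X0 0) (Y0 1 2)) (pairC (XC 0) (YC 1 2)) hC)
    rw [coeff_pair (h1 0) (h1 1) (Y0 0 1) (X0 2), coeff_pair (h1 0) (h1 1) (X0 0) (X0 1),
      coeff_pair (h1 0) (h1 1) (X0 0) (Y0 1 2), coeff_pair (h1 0) (h1 1) (X0 1) (X0 2), add_assoc]
  let F : FormalGroup O := ⟨Φ, h0, h1 0, h1 1, hassoc⟩
  have huniq : ∀ G : MvPowerSeries (Fin 2) O, constantCoeff G = 0 → coeff (single 0 1) G = 1 →
      coeff (single 1 1) G = 1 → Commutes π q G → G = Φ := fun G g0 gx gy gC =>
    Commutes.ext hq (inj_lt hπ) g0 h0 (Fin.forall_fin_two.2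
      ⟨gx.trans (h1 0).symm, gy.trans (h1 1).symm⟩) gC hC
  refine ⟨F, ⟨(huniq _ (cc_subst (pair0 (constantCoeff_X 1) (constantCoeff_X 0)) h0) ?_ ?_
    (Commutes.comp hq (pair0 (constantCoeff_X 1) (constantCoeff_X 0))
      (pairC (Commutes.X' hq 1) (Commutes.X' hq 0)) hC)).symm⟩, hC, huniq⟩
  all_goals
    rw [coeff_pair (h1 0) (h1 1) (constantCoeff_X 1) (constantCoeff_X 0)]
    simp [coeff_index_single_X]

variable {K : Type u} [Field K] [Algebra O K] [IsFractionRing O K]

theorem inj_linear (hπ : Irreducible π) (n : ℕ) (hn : 2 ≤ n) :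
    algebraMap O K π ^ n - algebraMap O K π ≠ 0 := by
  rw [← map_pow, ← map_sub]
  refine fun h => one_ne_zero (α := O) (inj_lt hπ n hn 1 ?_)
  have := (IsFractionRing.injective O K) (h.trans (map_zero _).symm)
  linear_combination -this

theorem exists_log {q : ℕ} (hq : 2 ≤ q) (hπ : Irreducible π) (F : FormalGroup O)
    (hF : Commutes π q F.toPowerSeries) :
    ∃ ℓ : PowerSeries K, (ℓ.constantCoeff = 0 ∧ ℓ.coeff 1 = 1 ∧
      PowerSeries.subst (PowerSeries.map (algebraMap O K) (π • PowerSeries.X + PowerSeries.X ^ q)) ℓ =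
        algebraMap O K π • ℓ) ∧
      (∀ ℓ' : PowerSeries K, ℓ'.constantCoeff = 0 → ℓ'.coeff 1 = 1 →
        PowerSeries.subst (PowerSeries.map (algebraMap O K) (π • PowerSeries.X + PowerSeries.X ^ q)) ℓ' =
          algebraMap O K π • ℓ' → ℓ' = ℓ) ∧
      PowerSeries.subst ((F.toPowerSeries).map (algebraMap O K)) ℓ =
        PowerSeries.subst (MvPowerSeries.X (0 : Fin 2) : MvPowerSeries (Fin 2) K) ℓ +
          PowerSeries.subst (MvPowerSeries.X (1 : Fin 2) : MvPowerSeries (Fin 2) K) ℓ ∧
      (∀ (α : O) (g : PowerSeries O), g.constantCoeff = 0 → g.coeff 1 = α →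
        PowerSeries.subst g (π • PowerSeries.X + PowerSeries.X ^ q : PowerSeries O) =
          PowerSeries.subst (π • PowerSeries.X + PowerSeries.X ^ q : PowerSeries O) g →
        PowerSeries.subst (PowerSeries.map (algebraMap O K) g) ℓ = algebraMap O K α • ℓ) := by
  set ρ := algebraMap O K π with hρ
  have hfK : PowerSeries.map (algebraMap O K) (π • PowerSeries.X + PowerSeries.X ^ q) =
      (ρ • PowerSeries.X + PowerSeries.X ^ q : PowerSeries K) := by
    rw [PowerSeries.smul_eq_C_mul, PowerSeries.smul_eq_C_mul, map_add, map_mul, map_pow,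
      PowerSeries.map_C, PowerSeries.map_X]
  simp only [hfK]
  have hinj : ∀ n, 2 ≤ n → ∀ x : K, (ρ ^ n - ρ) * x = 0 → x = 0 := fun n hn x hx =>
    (mul_eq_zero.1 hx).resolve_left (inj_linear hπ n hn)
  obtain ⟨L, h0, h1, hL⟩ := (tri_linear (σ := Unit) (π := ρ) hq).exists_zero (fun _ => 1) hinj
    (fun Φ hΦ _ d hd => low_linear hq hΦ d hd)
    (fun Φ _ d hd => ⟨-coeff d (subst (vars ρ q Unit) Φ - ρ • Φ) / (ρ ^ d.degree - ρ), by
      rw [mul_div_cancel₀ _ (inj_linear hπ _ hd), add_neg_cancel]⟩)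
  have hLlin : Linearizes ρ q L := sub_eq_zero.1 hL
  refine ⟨L, ⟨h0, h1 (), hLlin⟩, fun ℓ' h0' h1' h' => ?_, ?_, fun α g g0 g1 gC => ?_⟩
  · exact Linearizes.ext hq hinj h0' h0 (fun i => by rw [h1]; exact h1') h'
      hLlin
  · set FK := F.toPowerSeries.map (algebraMap O K)
    have a0 : ∀ _ : Unit, constantCoeff FK = 0 := fun _ => by
      rw [constantCoeff_map, F.zero_constantCoeff, map_zero]
    have x0 : ∀ i : Fin 2, ∀ _ : Unit, constantCoeff (X i : MvPowerSeries (Fin 2) K) = 0 :=
      fun i _ => constantCoeff_X i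
    have lin1 := Linearizes.comp hq a0 (fun _ => hF.map hq (algebraMap O K)) hLlin
    have linX := fun i : Fin 2 => Linearizes.comp hq (x0 i) (fun _ => Commutes.X' hq i) hLlin
    rw [← sub_eq_zero, ← sub_sub]
    refine Linearizes.ext hq hinj ?_ (map_zero _) (fun j => ?_) ((lin1.sub hq (linX 0)).sub hq (linX 1)) ?_
    · rw [map_sub, map_sub, PowerSeries.subst_def, PowerSeries.subst_def, PowerSeries.subst_def,
        cc_subst a0 h0, cc_subst (x0 0) h0, cc_subst (x0 1) h0]
      simp
    · have hF1 : coeff (single j 1) FK = 1 := by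
        rw [coeff_map]
        fin_cases j
        · rw [show ((⟨0, by omega⟩ : Fin 2)) = 0 from rfl, F.lin_coeff_X, map_one]
        · rw [show ((⟨1, by omega⟩ : Fin 2)) = 1 from rfl, F.lin_coeff_Y, map_one]
      rw [map_sub, map_sub, PowerSeries.subst_def, PowerSeries.subst_def, PowerSeries.subst_def,
        coeff_subst_degree_one a0 _ (degree_single j 1),
        coeff_subst_degree_one (x0 0) _ (degree_single j 1),
        coeff_subst_degree_one (x0 1) _ (degree_single j 1)]
      simp [h1, hF1, coeff_index_single_X]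
      fin_cases j <;> simp
    · rw [Linearizes, ← coe_substAlgHom (hasSubst_vars hq), map_zero, smul_zero]
  · have a0 : ∀ _ : Unit, constantCoeff (PowerSeries.map (algebraMap O K) g : MvPowerSeries Unit K) = 0 :=
      fun _ => by
        show PowerSeries.constantCoeff (PowerSeries.map (algebraMap O K) g) = 0
        rw [← PowerSeries.coeff_zero_eq_constantCoeff_apply, PowerSeries.coeff_map,
          PowerSeries.coeff_zero_eq_constantCoeff_apply]
        rw [show PowerSeries.constantCoeff g = 0 from g0, map_zero]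
    have gC' := ((commutes_ps g0).2 gC).map hq (algebraMap O K)
    have hcc : constantCoeff (algebraMap O K α • L) = 0 := by
      rw [smul_eq_C_mul, map_mul, h0, mul_zero]
    refine Linearizes.ext hq hinj (cc_subst a0 h0) hcc (fun j => ?_)
      (Linearizes.comp hq a0 (fun _ => gC') hLlin) (hLlin.smul hq _)
    rw [PowerSeries.subst_def, coeff_subst_degree_one a0 _ (degree_single j 1), coeff_smul, h1]
    simp [h1, coeff_single_unit, g1]

end DVR

end Groth.Agent.LT84
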